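import Mathlib
import Cfsg.Agent.Lib.Helper19.SPU.Defs
import Cfsg.Agent.Lib.Helper40.Fitting
import Cfsg.Agent.Lib.Helper61.SPU.Dec1

/-!
# SPU (S2316): package [DEC2]

Orthogonal Fitting decomposition of `X ∈ 𝒜(K)` with respect to `X² + X`.
-/

set_option autoImplicit false

namespace Cfsg.Agent.Lib.Helper61.SPU

open Matrix Cfsg.Agent.Lib.Helper19.SPU

universe u

section tools2

variable {F : Type u} [Field F]

/-- Sylvester: `Z A = N Z`, `N` nilpotent, `A` invertible, forces `Z = 0`. -/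
theorem sylv_right {α β : Type} [Fintype α] [DecidableEq α] [Fintype β] [DecidableEq β]
    (N : Matrix α α F) (A : Matrix β β F) (Z : Matrix α β F) (hN : IsNilpotent N)
    (hA : IsUnit A) (h : Z * A = N * Z) : Z = 0 := by
  obtain ⟨k, hk⟩ := hN
  have hpow : ∀ j : ℕ, Z * A ^ j = N ^ j * Z := by
    intro j
    induction j with
    | zero => rw [pow_zero, pow_zero, Matrix.mul_one, Matrix.one_mul]
    | succ j ih =>
      rw [pow_succ, ← Matrix.mul_assoc, ih, Matrix.mul_assoc, h, ← Matrix.mul_assoc, ← pow_succ]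
  have h0 : Z * A ^ k = 0 := by rw [hpow, hk, Matrix.zero_mul]
  obtain ⟨B, hB⟩ := (hA.pow k).exists_right_inv
  calc Z = Z * A ^ k * B := by rw [Matrix.mul_assoc, hB, Matrix.mul_one]
    _ = 0 := by rw [h0, Matrix.zero_mul]

/-- Sylvester: `W N = A W`, `N` nilpotent, `A` invertible, forces `W = 0`. -/
theorem sylv_left {α β : Type} [Fintype α] [DecidableEq α] [Fintype β] [DecidableEq β]
    (N : Matrix α α F) (A : Matrix β β F) (W : Matrix β α F) (hN : IsNilpotent N)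
    (hA : IsUnit A) (h : W * N = A * W) : W = 0 := by
  obtain ⟨k, hk⟩ := hN
  have hpow : ∀ j : ℕ, W * N ^ j = A ^ j * W := by
    intro j
    induction j with
    | zero => rw [pow_zero, pow_zero, Matrix.mul_one, Matrix.one_mul]
    | succ j ih =>
      rw [pow_succ, ← Matrix.mul_assoc, ih, Matrix.mul_assoc, h, ← Matrix.mul_assoc, ← pow_succ]
  have h0 : A ^ k * W = 0 := by rw [← hpow, hk, Matrix.mul_zero]
  obtain ⟨B, hB⟩ := (hA.pow k).exists_left_inv
  calc W = B * (A ^ k * W) := by rw [← Matrix.mul_assoc, hB, Matrix.one_mul]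
    _ = 0 := by rw [h0, Matrix.mul_zero]

end tools2

/-- [DEC2] -/
theorem pkgDec2 : PkgDec2.{u} := by
  intro F _ α β _ _ _ _ K X hK hX hr
  classical
  obtain ⟨hKT, hKd, hKu⟩ := hK
  obtain ⟨P, N, A, hN, hA, hM⟩ := Cfsg.Agent.Lib.Helper40.fitting_exists (X * X + X) hr
  have hPi : P⁻¹.val * P.val = 1 := by
    rw [← Units.val_mul, inv_mul_cancel, Units.val_one]
  have hPi' : P.val * P⁻¹.val = 1 := by
    rw [← Units.val_mul, mul_inv_cancel, Units.val_one]
  obtain ⟨X', hX'⟩ : ∃ X' : Matrix (α ⊕ β) (α ⊕ β) F, X' = P⁻¹.val * X * P.val := ⟨_, rfl⟩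
  have hXP : X * P.val = P.val * X' := by
    rw [hX', ← Matrix.mul_assoc, ← Matrix.mul_assoc, hPi', Matrix.one_mul]
  -- `X'² + X' = D`
  have hD : X' * X' + X' = Matrix.fromBlocks N 0 0 A := by
    have e : P.val * (X' * X' + X') = P.val * Matrix.fromBlocks N 0 0 A := by
      rw [← hM, Matrix.mul_add, ← Matrix.mul_assoc, ← hXP, Matrix.mul_assoc, ← hXP,
        ← Matrix.mul_assoc, Matrix.add_mul]
    have e' := congrArg (fun M => P⁻¹.val * M) e
    simp only [← Matrix.mul_assoc, hPi, Matrix.one_mul] at e'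
    exact e'
  obtain ⟨X1, Y12, Y21, X2, hXb⟩ : ∃ (X1 : Matrix α α F) (Y12 : Matrix α β F)
      (Y21 : Matrix β α F) (X2 : Matrix β β F), X' = Matrix.fromBlocks X1 Y12 Y21 X2 :=
    ⟨_, _, _, _, (Matrix.fromBlocks_toBlocks X').symm⟩
  -- `X'` commutes with `D`
  have hcomm : X' * Matrix.fromBlocks N 0 0 A = Matrix.fromBlocks N 0 0 A * X' := by
    rw [← hD]
    noncomm_ring
  rw [hXb, Matrix.fromBlocks_multiply, Matrix.fromBlocks_multiply] at hcomm
  simp only [Matrix.zero_mul, Matrix.mul_zero, add_zero, zero_add] at hcomm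
  obtain ⟨-, c12, c21, -⟩ := Matrix.fromBlocks_inj.mp hcomm
  have hY12 : Y12 = 0 := sylv_right N A Y12 hN hA c12
  have hY21 : Y21 = 0 := sylv_left N A Y21 hN hA c21
  rw [hY12, hY21] at hXb
  rw [hXb, Matrix.fromBlocks_multiply, Matrix.fromBlocks_add] at hD
  simp only [Matrix.zero_mul, Matrix.mul_zero, add_zero, zero_add] at hD
  obtain ⟨d11, -, -, d22⟩ := Matrix.fromBlocks_inj.mp hD
  -- the form
  obtain ⟨K', hK'⟩ : ∃ K' : Matrix (α ⊕ β) (α ⊕ β) F, K' = P.valᵀ * K * P.val := ⟨_, rfl⟩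
  obtain ⟨hK'T, hK'd⟩ := congr_alt K hKT hKd P.val
  rw [← hK'] at hK'T hK'd
  have hK'u : IsUnit K' := by
    rw [hK']
    have hP : IsUnit P.val := P.isUnit
    have hPT : IsUnit P.valᵀ := by
      rw [Matrix.isUnit_iff_isUnit_det, Matrix.det_transpose, ← Matrix.isUnit_iff_isUnit_det]
      exact hP
    exact (hPT.mul hKu).mul hP
  have hAff : X'ᵀ * K' + K' * X' + K' = 0 := by
    have e1 : X'ᵀ * K' = P.valᵀ * (Xᵀ * K) * P.val := by
      rw [hK', ← Matrix.mul_assoc, ← Matrix.mul_assoc, ← Matrix.transpose_mul, ← hXP,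
        Matrix.transpose_mul]
      simp only [Matrix.mul_assoc]
    have e2 : K' * X' = P.valᵀ * (K * X) * P.val := by
      rw [hK', Matrix.mul_assoc, ← hXP]
      simp only [Matrix.mul_assoc]
    have hX0 : Xᵀ * K + K * X + K = 0 := hX
    rw [e1, e2, hK', ← Matrix.add_mul, ← Matrix.add_mul, ← Matrix.mul_add, ← Matrix.mul_add, hX0,
      Matrix.mul_zero, Matrix.zero_mul]
  obtain ⟨K11, Z, W, K22, hKb⟩ : ∃ (K11 : Matrix α α F) (Z : Matrix α β F) (W : Matrix β α F)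
      (K22 : Matrix β β F), K' = Matrix.fromBlocks K11 Z W K22 :=
    ⟨_, _, _, _, (Matrix.fromBlocks_toBlocks K').symm⟩
  rw [hKb, hXb, Matrix.fromBlocks_transpose, Matrix.fromBlocks_multiply,
    Matrix.fromBlocks_multiply, Matrix.fromBlocks_add, Matrix.fromBlocks_add] at hAff
  simp only [Matrix.transpose_zero, Matrix.zero_mul, Matrix.mul_zero, add_zero, zero_add] at hAff
  have hAff' : Matrix.fromBlocks (X1ᵀ * K11 + K11 * X1 + K11) (X1ᵀ * Z + Z * X2 + Z)
      (X2ᵀ * W + W * X1 + W) (X2ᵀ * K22 + K22 * X2 + K22) =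
      Matrix.fromBlocks (0 : Matrix α α F) (0 : Matrix α β F) (0 : Matrix β α F)
        (0 : Matrix β β F) := by
    rw [hAff, Matrix.fromBlocks_zero]
  obtain ⟨a11, a12, -, a22⟩ := Matrix.fromBlocks_inj.mp hAff'
  -- `Z A = Nᵀ Z`
  have hZ : Z = 0 := by
    apply sylv_right Nᵀ A Z _ hA
    · have z1 : Z * X2 = -(X1ᵀ * Z) - Z := by
        rw [eq_sub_iff_add_eq, eq_neg_iff_add_eq_zero, ← a12]
        abel
      calc Z * A = Z * (X2 * X2 + X2) := by rw [d22]
        _ = (Z * X2) * X2 + Z * X2 := by rw [Matrix.mul_add, Matrix.mul_assoc]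
        _ = (-(X1ᵀ * Z) - Z) * X2 + (-(X1ᵀ * Z) - Z) := by rw [z1]
        _ = -(X1ᵀ * (Z * X2)) - Z * X2 - X1ᵀ * Z - Z := by
            rw [Matrix.sub_mul, Matrix.neg_mul, Matrix.mul_assoc]
            abel
        _ = -(X1ᵀ * (-(X1ᵀ * Z) - Z)) - (-(X1ᵀ * Z) - Z) - X1ᵀ * Z - Z := by rw [z1]
        _ = X1ᵀ * X1ᵀ * Z + X1ᵀ * Z := by
            rw [Matrix.mul_sub, Matrix.mul_neg, Matrix.mul_assoc]
            abel
        _ = Nᵀ * Z := by
            rw [← d11, Matrix.transpose_add, Matrix.transpose_mul, Matrix.add_mul]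
    · obtain ⟨k, hk⟩ := hN
      exact ⟨k, by rw [← Matrix.transpose_pow, hk, Matrix.transpose_zero]⟩
  rw [hKb, Matrix.fromBlocks_transpose, Matrix.fromBlocks_neg] at hK'T
  obtain ⟨t11, t12, t21, t22⟩ := Matrix.fromBlocks_inj.mp hK'T
  have hW : W = 0 := by
    have : W = -Zᵀ := by rw [t21, neg_neg]
    rw [this, hZ, Matrix.transpose_zero, neg_zero]
  rw [hZ, hW] at hKb
  have hdet : IsUnit (K11.det * K22.det) := by
    have h := (Matrix.isUnit_iff_isUnit_det _).mp hK'u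
    rw [hKb, Matrix.det_fromBlocks_zero₁₂] at h
    exact h
  have hd11 : ∀ i, K11 i i = 0 := fun i => by
    have := hK'd (Sum.inl i)
    rw [hKb] at this
    simpa using this
  have hd22 : ∀ i, K22 i i = 0 := fun i => by
    have := hK'd (Sum.inr i)
    rw [hKb] at this
    simpa using this
  refine ⟨P, K11, K22, X1, X2, ⟨t11, hd11, ?_⟩, ⟨t22, hd22, ?_⟩, ?_, ?_, a11, a22, ?_, ?_⟩
  · rw [Matrix.isUnit_iff_isUnit_det]
    exact isUnit_of_mul_isUnit_left hdet
  · rw [Matrix.isUnit_iff_isUnit_det]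
    exact isUnit_of_mul_isUnit_right hdet
  · rw [← hK', hKb]
  · rw [hXP, hXb]
  · rw [d11]
    exact hN
  · have hu : IsUnit (X2 * (X2 + 1)) := by
      rw [Matrix.mul_add, Matrix.mul_one, d22]
      exact hA
    rw [Matrix.isUnit_iff_isUnit_det] at hu ⊢
    rw [Matrix.det_mul] at hu
    exact isUnit_of_mul_isUnit_left hu

end Cfsg.Agent.Lib.Helper61.SPU
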